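import Cfsg.Agent.Crit.TwoFrob13
import Cfsg.Agent.Solv.Hall
import Cfsg.Agent.Solv.ElemAb

/-! The Frobenius group `13⁴ ⋊ 2.S₄`. -/

set_option autoImplicit false

namespace Cfsg.Lib.Crit

open Cfsg.Lib.Solv Cfsg.Lib.Perm Subgroup

universe u

theorem exists_hom_S4 {H : Type*} [Group H] [Finite H] (h : IsFC H)
    (hp : ∀ p : ℕ, p.Prime → p ∣ Nat.card H → p = 2 ∨ p = 3)
    (hc : ∀ y u : H, orderOf y = 3 → Commute y u → u ^ 6 = 1) {a y : H} (ha : orderOf a = 8)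
    (hy : orderOf y = 3) : ∃ f : H →* Equiv.Perm (Fin 4), Function.Surjective f ∧
      (∀ g, f g = 1 → g ^ 2 = 1) ∧ ∃ z, z ≠ 1 ∧ f z = 1 := by
  classical
  have : Fact (Nat.Prime 3) := ⟨Nat.prime_three⟩
  have : Fact (Nat.Prime 2) := ⟨Nat.prime_two⟩
  have ha4 : (a ^ 2) ^ 2 ≠ 1 := fun e => by
    have := orderOf_dvd_of_pow_eq_one (pow_mul a 2 2 ▸ e)
    rw [ha] at this; omega
  rcases h.trichotomy with ⟨P, N, hN, hNP⟩ | ⟨Q, hQ, ⟨e⟩, -, h12⟩ | ⟨L, -, ⟨e⟩⟩
  · exfalso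
    have hi : N.index = Nat.card P := hNP.symm.index_eq_card
    obtain ⟨k, hk⟩ := P.isPGroup'.exists_card_eq
    have hyN : y ∈ N := mem_of_coprime_orderOf_index_of_normal (by
      rw [hy, hi, hk]; exact Nat.Coprime.pow_right _ (by norm_num))
    have h3 : IsPGroup 3 N := isPGroup_iff_isPiNum.2 fun p hp' hd => by
      rcases hp p hp' (hd.trans (card_subgroup_dvd_card N)) with rfl | rfl
      · exact absurd (hNP.index_eq_card ▸ hd) P.not_dvd_index
      · rfl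
    have hcy := h.isCyclic_of_odd_prime (by norm_num) h3
    have h1 : a * y * a⁻¹ ∈ N := hN.conj_mem y hyN a
    have h2 : a * y * a⁻¹ ∈ zpowers y := h.mem_zpowers_of_commute
      (congrArg Subtype.val (hcy.commGroup.mul_comm ⟨y, hyN⟩ ⟨_, h1⟩))
      (by rw [conj_pow, pow_orderOf_eq_one]; simp)
    rw [mem_zpowers_iff_mem_range_orderOf, hy] at h2
    simp only [Finset.mem_image, Finset.mem_range] at h2
    obtain ⟨j, hj, e⟩ := h2
    have h4 := conj_pow_pow e.symm 2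
    have h5 : a ^ 2 * y * (a ^ 2)⁻¹ = y := by
      interval_cases j
      · simp only [pow_zero] at e
        have : y = 1 := by simpa using e.symm
        rw [this] at hy; simp at hy
      · simpa using h4
      · rw [h4, ← pow_mod_orderOf, hy]; simp
    have h6 := hc y (a ^ 2) hy (mul_inv_eq_iff_eq_mul.1 h5).symm
    have := orderOf_dvd_of_pow_eq_one (pow_mul a 2 6 ▸ h6)
    rw [ha] at this; omega
  · obtain ⟨i, hi, j, hj, hi4, hj4, hij, -, -⟩ := exists_quat_of_q8 e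
    obtain ⟨f, hf⟩ := exists_hom_of_normal_q8 Q e
    have hi2 : i ^ 2 ≠ 1 := fun e => hij (h.mul_comm_of_sq e j).symm
    have hker : ∀ g, f g = 1 → g ^ 2 = 1 := fun g hg => by
      have h1 : g ∈ centralizer (Q : Set H) := hf ▸ hg
      have h2 : IsPiNum {2} (orderOf g) := fun p hp' hd => by
        rcases hp p hp' (hd.trans (orderOf_dvd_natCard g)) with rfl | rfl
        · rfl
        · exfalso
          have h3 := hc _ i (orderOf_pow_orderOf_div (orderOf_pos g).ne' hd)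
            (Commute.pow_left (h1 i hi).symm _)
          rw [show 6 = 4 + 2 by rfl, pow_add, hi4, one_mul] at h3
          exact hi2 h3
      obtain ⟨k, hk⟩ := (isPiNum_singleton_iff Nat.prime_two (orderOf_pos g).ne').1 h2
      exact h.sq_eq_one_of_commute hi4 hj4 hij (h1 i hi).symm (h1 j hj).symm hk
    have hz : ∀ g : H, g ^ 2 = 1 → f g = 1 := fun g hg => by
      have : g ∈ centralizer (Q : Set H) := fun q _ => h.mul_comm_of_sq hg q
      rwa [← hf] at this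
    rcases alt_or_perm f (by
      rw [hf, Nat.card_eq_fintype_card, Fintype.card_perm]
      exact Nat.mul_dvd_mul_left 2 h12) with ⟨f', -, h1⟩ | h1
    · exfalso
      have key : ∀ g : alternatingGroup (Fin 4), g ^ 4 = 1 → g ^ 2 = 1 := by decide
      have h2 : a ^ 4 ∈ f'.ker := h1 ▸ hz _ (by
        rw [← pow_mul]; exact (ha ▸ pow_orderOf_eq_one a : a ^ 8 = 1))
      have h3 : a ^ 2 ∈ f'.ker := by
        rw [MonoidHom.mem_ker, map_pow] at h2 ⊢
        exact key _ h2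
      exact ha4 (hker _ (h1 ▸ h3 : a ^ 2 ∈ f.ker))
    · exact ⟨f, h1, hker, i ^ 2, hi2, hz _ (by rw [← pow_mul, hi4])⟩
  · exfalso
    have := hp 5 (by norm_num) (Dvd.dvd.trans (by rw [Nat.card_congr e.toEquiv, card_SL25]; norm_num)
      (card_subgroup_dvd_card L))
    omega

theorem finrank_le_four {H V : Type*} [Group H] [Finite H] [AddCommGroup V] [Module (ZMod 13) V]
    [Nontrivial V] {ρ : H →* Module.End (ZMod 13) V} (hρ : FPF ρ)
    {f : H →* Equiv.Perm (Fin 4)} (hf : Function.Surjective f) (hker : ∀ g, f g = 1 → g ^ 2 = 1)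
    (irr : ∀ U : Submodule (ZMod 13) V, (∀ g, ∀ u ∈ U, ρ g u ∈ U) → U = ⊥ ∨ U = ⊤) :
    Module.finrank (ZMod 13) V ≤ 4 := by
  have P0 : ∀ g, f g = 1 → ρ g = 1 ∨ ρ g = -1 := fun g hg => by
    by_cases h1 : g = 1
    · left; rw [h1, map_one]
    · exact Or.inr (hρ.eq_neg_one h1 (hker g hg))
  have P1 : ∀ g, f g ≠ 1 → g ^ 2 ≠ 1 := fun g hg h2 => by
    have key : ∀ σ : Equiv.Perm (Fin 4), (∀ τ, τ * σ = σ * τ) → σ = 1 := by decide
    refine hg (key _ fun τ => ?_)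
    obtain ⟨t, rfl⟩ := hf τ
    rw [← map_mul, ← map_mul, hρ.mem_center_of_sq h2]
  have P2 : ∀ g, f g ≠ 1 → f g * f g = 1 → ρ g * ρ g = -1 := fun g hg h2 => by
    rw [← map_mul, ← pow_two]
    exact hρ.eq_neg_one (P1 g hg) (hker _ (by rw [pow_two, map_mul, h2]))
  have P3 : ∀ g, f g ≠ 1 → f g * f g * f g = 1 → ∃ ε : ZMod 13, ρ g + ρ g⁻¹ = ε • 1 := by
    intro g hg h3
    by_cases h : g ^ 3 = 1
    · refine ⟨-1, ?_⟩
      rw [hρ.inv_of_order_three (fun e => hg (by rw [e, map_one])) h, neg_smul, one_smul]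
      abel
    · refine ⟨1, ?_⟩
      rw [one_smul]
      exact hρ.tau_of_six (P1 g hg) h (hker _ (by rw [map_pow, pow_succ, pow_two, h3]))
  obtain ⟨a, ha⟩ := hf (finRotate 4)
  obtain ⟨i, hi⟩ := hf (Equiv.swap 0 1 * Equiv.swap 2 3)
  have hK := P2 (a * a) (by rw [map_mul, ha]; decide) (by rw [map_mul, ha]; decide)
  have hI := P2 i (by rw [hi]; decide) (by rw [hi]; decide)
  have hIK := P2 (i * (a * a)) (by rw [map_mul, map_mul, ha, hi]; decide)
    (by rw [map_mul, map_mul, ha, hi]; decide)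
  have hAI := P2 (a * i) (by rw [map_mul, ha, hi]; decide) (by rw [map_mul, ha, hi]; decide)
  have inv2 : ∀ g, ρ g * ρ g = -1 → ρ g⁻¹ = -ρ g := fun g hg => by
    have h1 : ρ g * ρ g⁻¹ = 1 := by rw [← map_mul, mul_inv_cancel, map_one]
    calc ρ g⁻¹ = -(ρ g * ρ g) * ρ g⁻¹ := by rw [hg, neg_neg, one_mul]
      _ = -ρ g := by rw [neg_mul, mul_assoc, h1, mul_one]
  have hKi := inv2 _ hK
  have hAA : ρ a * ρ a⁻¹ = 1 := by rw [← map_mul, mul_inv_cancel, map_one]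
  have hAA' : ρ a⁻¹ * ρ a = 1 := by rw [← map_mul, inv_mul_cancel, map_one]
  have h3 : ∀ g, f g ≠ 1 → f g * f g * f g = 1 → ∀ q, ρ q * ρ q = -1 → f (g * q) ≠ 1 →
      f (g * q) * f (g * q) * f (g * q) = 1 →
      ∃ c : ZMod 13, (ρ g - ρ g⁻¹) * ρ q + ρ q * (ρ g - ρ g⁻¹) = c • 1 := by
    intro g hg hg3 q hq h1 h2
    obtain ⟨ε, hε⟩ := P3 g hg hg3
    obtain ⟨c, hc⟩ := P3 _ h1 h2
    rw [mul_inv_rev, map_mul, map_mul, inv2 q hq] at hc
    refine ⟨c + c, ?_⟩
    rw [add_smul, ← hc, eq_sub_of_add_eq' hε]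
    simp only [mul_sub, sub_mul, neg_mul, mul_smul_comm, smul_mul_assoc, mul_one, one_mul,
      smul_neg]
    abel
  rw [mul_inv_rev, map_mul, map_mul] at hKi
  rw [map_mul] at hAI hK
  rw [map_mul, map_mul] at hIK
  have hk : ρ (a * a) = ρ a * ρ a := map_mul _ _ _
  have hik : ρ (i * (a * a)) = ρ i * (ρ a * ρ a) := by rw [map_mul, map_mul]
  have hsa : ρ a = (7 : ZMod 13) • ((ρ a + ρ a⁻¹) * (1 + ρ a * ρ a)) := by
    have : (ρ a + ρ a⁻¹) * (1 + ρ a * ρ a) = ρ a + ρ a := by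
      have e1 : ρ a⁻¹ = -(ρ a * (ρ a * ρ a)) := by
        calc ρ a⁻¹ = ρ a * (ρ a⁻¹ * ρ a⁻¹) := by rw [← mul_assoc, hAA, one_mul]
          _ = _ := by rw [hKi, mul_neg]
      rw [mul_add, mul_one, add_mul, ← mul_assoc (ρ a⁻¹), hAA', one_mul]
      nth_rw 1 [e1]
      abel
    rw [this, ← two_smul (ZMod 13), smul_smul, show (7 * 2 : ZMod 13) = 1 by decide, one_smul]
  have hss : (ρ a + ρ a⁻¹) * (ρ a + ρ a⁻¹) = 1 + 1 := by
    rw [add_mul, mul_add, mul_add, hAA, hAA', hKi]; abel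
  have hsK : ρ a * ρ a * (ρ a + ρ a⁻¹) = (ρ a + ρ a⁻¹) * (ρ a * ρ a) := by
    rw [add_mul, mul_add, mul_assoc _ _ (ρ a⁻¹), hAA, ← mul_assoc (ρ a⁻¹), hAA', mul_assoc,
      mul_one, one_mul]
  have hsI : ρ i * (ρ a + ρ a⁻¹) = (ρ a + ρ a⁻¹) * ρ i := by
    have e0 : ρ a * ρ i * ρ a = ρ i := by
      calc ρ a * ρ i * ρ a = -(ρ a * ρ i * ρ a * (ρ i * ρ i)) := by rw [hI]; simp
        _ = -(ρ a * ρ i * (ρ a * ρ i) * ρ i) := by simp only [mul_assoc]
        _ = ρ i := by rw [hAI]; simp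
    have e1 : ρ i * ρ a = ρ a⁻¹ * ρ i := by
      conv_rhs => rw [← e0, ← mul_assoc, ← mul_assoc, hAA', one_mul]
    have e2 : ρ i * ρ a⁻¹ = ρ a * ρ i := by
      conv_lhs => rw [← e0, mul_assoc, hAA, mul_one]
    rw [mul_add, add_mul, e1, e2, add_comm]
  have hKI : ρ a * ρ a * ρ i = -(ρ i * (ρ a * ρ a)) := by
    generalize ρ a * ρ a = K at hK hIK
    calc K * ρ i = (ρ i * ρ i) * K * ρ i * (K * K) := by rw [hI, hK]; simp
      _ = ρ i * (ρ i * K * (ρ i * K)) * K := by simp only [mul_assoc]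
      _ = _ := by rw [hIK]; simp
  generalize hs : ρ a + ρ a⁻¹ = s at hsa hss hsK hsI
  generalize hKK : ρ a * ρ a = K at hK hIK hk hik hsa hsK hKI
  obtain ⟨v, hv0, c, hv⟩ : ∃ v : V, v ≠ 0 ∧ ∃ c : ZMod 13, K v = c • v := by
    obtain ⟨u, hu⟩ := exists_ne (0 : V)
    by_cases h : K u + (5 : ZMod 13) • u = 0
    · exact ⟨u, hu, -5, by rw [neg_smul, eq_neg_iff_add_eq_zero, h]⟩
    · refine ⟨_, h, 5, ?_⟩
      have : K (K u) = -u := by rw [← Module.End.mul_apply, hK]; rfl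
      rw [map_add, map_smul, this, smul_add, smul_smul, show (5 * 5 : ZMod 13) = -1 by decide,
        neg_smul, one_smul, add_comm]
  let b : Fin 4 → V := ![v, ρ i v, s v, s (ρ i v)]
  let W := Submodule.span (ZMod 13) (Set.range b)
  have hb : ∀ k, b k ∈ W := fun k => Submodule.subset_span ⟨k, rfl⟩
  let S : Subalgebra (ZMod 13) (Module.End (ZMod 13) V) :=
    { carrier := {X | ∀ w ∈ W, X w ∈ W}
      mul_mem' := fun hX hY w hw => hX _ (hY w hw)
      add_mem' := fun hX hY w hw => add_mem (hX w hw) (hY w hw)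
      algebraMap_mem' := fun r w hw => W.smul_mem r hw }
  have hS : ∀ X : Module.End (ZMod 13) V, (∀ k, X (b k) ∈ W) → X ∈ S := fun X hX =>
    (Submodule.span_le.2 (by rintro _ ⟨k, rfl⟩; exact hX k) : W ≤ W.comap X)
  have ap : ∀ {X Y : Module.End (ZMod 13) V}, X = Y → ∀ w, X w = Y w := fun e w => by rw [e]
  have hII : ∀ w, ρ i (ρ i w) = -w := ap hI
  have hIs : ∀ w, ρ i (s w) = s (ρ i w) := ap hsI
  have hKs : ∀ w, K (s w) = s (K w) := ap hsK
  have hKI' : ∀ w, K (ρ i w) = -ρ i (K w) := ap hKI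
  have hss' : ∀ w, s (s w) = w + w := ap hss
  have mI : ρ i ∈ S := hS _ fun k => by
    fin_cases k
    · exact hb 1
    · exact (hII v).symm ▸ neg_mem (hb 0)
    · exact (hIs v).symm ▸ hb 3
    · change ρ i (s (ρ i v)) ∈ W
      rw [hIs, hII, map_neg]; exact neg_mem (hb 2)
  have mK : K ∈ S := hS _ fun k => by
    fin_cases k
    · exact hv.symm ▸ W.smul_mem c (hb 0)
    · change K (ρ i v) ∈ W
      rw [hKI', hv, map_smul]; exact neg_mem (W.smul_mem c (hb 1))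
    · change K (s v) ∈ W
      rw [hKs, hv, map_smul]; exact W.smul_mem c (hb 2)
    · change K (s (ρ i v)) ∈ W
      rw [hKs, hKI', hv, map_smul, map_neg, map_smul]; exact neg_mem (W.smul_mem c (hb 3))
  have ms : s ∈ S := hS _ fun k => by
    fin_cases k
    · exact hb 2
    · exact hb 3
    · exact (hss' v).symm ▸ add_mem (hb 0) (hb 0)
    · exact (hss' (ρ i v)).symm ▸ add_mem (hb 1) (hb 1)
  have ma : ρ a ∈ S := hsa ▸ S.smul_mem (mul_mem ms (add_mem (one_mem S) mK)) _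
  have m0 : ∀ g, f g = 1 → ρ g ∈ S := fun g hg => by
    rcases P0 g hg with e | e <;> rw [e]
    · exact one_mem S
    · exact neg_mem (one_mem S)
  have m3 : ∀ g, f g * f g * f g = 1 → ρ g ∈ S := fun g hg3 => by
    by_cases hg : f g = 1
    · exact m0 g hg
    have key : ∀ σ : Equiv.Perm (Fin 4), σ ≠ 1 → σ * σ * σ = 1 → ∀ τ ∈
        ([Equiv.swap 0 1 * Equiv.swap 2 3, finRotate 4 * finRotate 4,
          Equiv.swap 0 1 * Equiv.swap 2 3 * (finRotate 4 * finRotate 4)] :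
          List (Equiv.Perm (Fin 4))),
        σ * τ ≠ 1 ∧ σ * τ * (σ * τ) * (σ * τ) = 1 := by decide +kernel
    have k1 := key _ hg hg3 (f i) (by rw [hi]; simp)
    have k2 := key _ hg hg3 (f (a * a)) (by rw [map_mul, ha]; simp)
    have k3 := key _ hg hg3 (f (i * (a * a))) (by rw [map_mul, map_mul, ha, hi]; simp)
    rw [← map_mul] at k1 k2 k3
    obtain ⟨c1, e1⟩ := h3 g hg hg3 i hI k1.1 k1.2
    obtain ⟨c2, e2⟩ := h3 g hg hg3 (a * a) (by rw [hk, hK]) k2.1 k2.2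
    obtain ⟨c3, e3⟩ := h3 g hg hg3 (i * (a * a)) (by rw [hik, hIK]) k3.1 k3.2
    obtain ⟨ε, hε⟩ := P3 g hg hg3
    rw [hk] at e2
    rw [hik] at e3
    have e4 : ρ g = (7 : ZMod 13) • (ρ g - ρ g⁻¹ + ε • 1) := by
      rw [← hε, show ρ g - ρ g⁻¹ + (ρ g + ρ g⁻¹) = ρ g + ρ g by abel, ← two_smul (ZMod 13),
        smul_smul, show (7 * 2 : ZMod 13) = 1 by decide, one_smul]
    generalize ρ g - ρ g⁻¹ = θ at e1 e2 e3 e4
    have e5 : ρ i * K * θ + ρ i * K * θ = c3 • 1 + c2 • ρ i - c1 • K := by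
      have f1 : c1 • K = θ * (ρ i * K) + ρ i * (θ * K) := by
        rw [← one_mul K, ← smul_mul_assoc, ← e1, one_mul, add_mul, mul_assoc, mul_assoc]
      have f2 : c2 • ρ i = ρ i * (θ * K) + ρ i * K * θ := by
        rw [← mul_one (ρ i), ← mul_smul_comm, ← e2, mul_one, mul_add, mul_assoc]
      rw [f1, f2, ← e3]; abel
    have e6 : θ = (6 : ZMod 13) • (ρ i * K * (c3 • 1 + c2 • ρ i - c1 • K)) := by
      rw [← e5, mul_add, ← mul_assoc, hIK, ← two_smul (ZMod 13), smul_smul,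
        show (6 * 2 : ZMod 13) = -1 by decide]
      simp
    rw [e4, e6]
    exact S.smul_mem (add_mem (S.smul_mem (mul_mem (mul_mem mI mK) (sub_mem (add_mem
      (S.smul_mem (one_mem S) _) (S.smul_mem mI _)) (S.smul_mem mK _))) _)
      (S.smul_mem (one_mem S) _)) _
  have hall : ∀ g, ρ g ∈ S := fun g => by
    have key : ∀ σ : Equiv.Perm (Fin 4), ∃ τ : Equiv.Perm (Fin 4), τ * τ * τ = 1 ∧
        ((τ⁻¹ * σ) * (τ⁻¹ * σ) * (τ⁻¹ * σ) = 1 ∨ (τ⁻¹ * σ * (finRotate 4)⁻¹) *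
          (τ⁻¹ * σ * (finRotate 4)⁻¹) * (τ⁻¹ * σ * (finRotate 4)⁻¹) = 1) := by decide +kernel
    obtain ⟨τ, h1, h2⟩ := key (f g)
    obtain ⟨t, rfl⟩ := hf τ
    rcases h2 with h2 | h2
    · rw [← map_inv, ← map_mul] at h2
      have := mul_mem (m3 _ h1) (m3 _ h2)
      rwa [← map_mul, mul_inv_cancel_left] at this
    · rw [← ha, ← map_inv, ← map_inv, ← map_mul, ← map_mul] at h2
      have := mul_mem (mul_mem (m3 _ h1) (m3 _ h2)) ma
      rwa [← map_mul, ← map_mul, show t * (t⁻¹ * g * a⁻¹) * a = g by group] at this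
  rcases irr W hall with h | h
  · exact absurd (h ▸ hb 0 : v ∈ (⊥ : Submodule (ZMod 13) V)) hv0
  · rw [← finrank_top, ← h]
    exact finrank_range_le_card b

variable {G : Type u} [Group G] [Finite G]

theorem Sp.of_dvd (h : Sp G) {K : Type*} [Group K] [Finite K]
    (h1 : ∀ k : K, ∃ g : G, orderOf k ∣ orderOf g) (h6 : ∃ k : K, orderOf k = 6)
    (h8 : ∃ k : K, orderOf k = 8) (h13 : ∃ k : K, orderOf k = 13) : Sp K := by
  obtain ⟨a, ha⟩ := h6
  obtain ⟨b, hb⟩ := h8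
  obtain ⟨c, hc⟩ := h13
  ext n
  constructor
  · rintro ⟨k, rfl⟩
    obtain ⟨g, hg⟩ := h1 k
    have h2 : orderOf k ≤ 13 := (Nat.le_of_dvd (orderOf_pos g) hg).trans (by
      have := h.mem g; omega)
    have h3 := h.mem g
    generalize orderOf k = m at hg h2
    simp only [Set.mem_insert_iff, Set.mem_singleton_iff]
    rcases h3 with e | e | e | e | e | e | e <;> rw [e] at hg <;> interval_cases m <;> omega
  · simp only [Set.mem_insert_iff, Set.mem_singleton_iff]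
    rintro (rfl | rfl | rfl | rfl | rfl | rfl | rfl)
    · exact ⟨1, orderOf_one⟩
    · exact ⟨b ^ 4, by rw [orderOf_pow, hb]; rfl⟩
    · exact ⟨a ^ 2, by rw [orderOf_pow, ha]; rfl⟩
    · exact ⟨b ^ 2, by rw [orderOf_pow, hb]; rfl⟩
    · exact ⟨a, ha⟩
    · exact ⟨b, hb⟩
    · exact ⟨c, hc⟩

theorem Sp.frobenius [Group.IsSolvable G] (h : Sp G) (crit : ∀ H : Subgroup G, Sp H → H = ⊤) :
    ∃ (K H : Subgroup G), K.Normal ∧ IsMulCommutative K ∧ (∀ x ∈ K, x ^ 13 = 1) ∧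
      Nat.card K = 13 ^ 4 ∧ K ⊓ H = ⊥ ∧ K ⊔ H = ⊤ ∧
      (∀ h ∈ H, h ≠ 1 → ∀ x ∈ K, h * x * h⁻¹ = x → x = 1) ∧
      ∃ (Z : Subgroup ↥H) (_ : Z.Normal), Nat.card Z = 2 ∧
        (∀ Z' : Subgroup ↥H, Nat.card Z' = 2 → Z' = Z) ∧
        Nonempty (↥H ⧸ Z ≃* Equiv.Perm (Fin 4)) := by
  classical
  obtain ⟨V, hV, hVK⟩ := exists_isMinNormal_le (pCore 13 G) h.pCore_ne_bot
  have hVn := hV.normal
  have hVP : IsPGroup 13 V := (pCore_isPGroup 13 G).to_le hVK
  obtain ⟨hVc, hV13⟩ := hV.elementary_of_isPGroup hVP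
  obtain ⟨H, hH⟩ := exists_isPiHall ({13}ᶜ) G
  have hHc : (Nat.card H).Coprime 13 :=
    (isPiNum_compl_singleton_iff (by norm_num)).1 (isPiHall_iff.1 hH).1
  have hex : ∀ n ∈ ({3, 6, 8} : Set ℕ), ∃ g : H, orderOf g = n := fun n hn => by
    have hn' : n.Coprime 13 ∧ n ∈ ({1, 2, 3, 4, 6, 8, 13} : Set ℕ) := by
      rcases hn with rfl | rfl | rfl <;> simp <;> norm_num
    obtain ⟨g, hg⟩ := h.ex hn'.2
    obtain ⟨x, hx⟩ := exists_conj_le_isPiHall hH (K := zpowers g) (isPiSubgroup_iff.2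
      ((isPiNum_compl_singleton_iff (by norm_num)).2 (by rw [Nat.card_zpowers, hg]; exact hn'.1)))
    refine ⟨⟨x * g * x⁻¹, hx (smul_mem_pointwise_smul g (MulAut.conj x) _ (mem_zpowers g))⟩, ?_⟩
    rw [Subgroup.orderOf_mk, ← hg]
    exact (MulAut.conj x).orderOf_eq g
  have hfpf : ∀ g ∈ H, g ≠ 1 → ∀ x ∈ V, g * x * g⁻¹ = x → x = 1 := fun g hg h1 x hx e => by
    by_contra h2
    have h3 : g ∈ H ⊓ centralizer {x} :=
      ⟨hg, mem_centralizer_singleton_iff.2 (mul_inv_eq_iff_eq_mul.1 e)⟩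
    rw [h.fpf hHc (orderOf_eq_prime (hV13 x hx) h2)] at h3
    exact h1 h3
  obtain ⟨v, hv, hv1⟩ := (bot_or_exists_ne_one V).resolve_left hV.ne_bot
  have htop : V ⊔ H = ⊤ := crit _ (h.of_dvd (fun k => ⟨k, by rw [Subgroup.orderOf_coe]⟩)
    (by obtain ⟨g, hg⟩ := hex 6 (by simp)
        exact ⟨⟨g, mem_sup_right g.2⟩, by rw [Subgroup.orderOf_mk, Subgroup.orderOf_coe, hg]⟩)
    (by obtain ⟨g, hg⟩ := hex 8 (by simp)
        exact ⟨⟨g, mem_sup_right g.2⟩, by rw [Subgroup.orderOf_mk, Subgroup.orderOf_coe, hg]⟩)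
    ⟨⟨v, mem_sup_left hv⟩, by rw [Subgroup.orderOf_mk]; exact orderOf_eq_prime (hV13 v hv) hv1⟩)
  have hHV : H ≤ normalizer (V : Set G) := by rw [normalizer_eq_top]; exact le_top
  have hfc : IsFC H := IsFC.of_ambient hHV hV.ne_bot fun g hg h1 => eq_bot_iff.2 fun x hx =>
    hfpf g hg h1 x hx.1 (mul_inv_eq_iff_eq_mul.2 (mem_centralizer_singleton_iff.1 hx.2).symm)
  obtain ⟨a, ha⟩ := hex 8 (by simp)
  obtain ⟨y, hy⟩ := hex 3 (by simp)
  obtain ⟨f, hf, hker, z, hz1, hz⟩ := exists_hom_S4 hfc (fun p hp hd => by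
      rcases h.prime hp (hd.trans (card_subgroup_dvd_card H)) with rfl | rfl | rfl
      · simp
      · simp
      · have := Nat.eq_one_of_dvd_coprimes hHc hd dvd_rfl; omega)
    (fun y u hy hc => Subtype.ext (h.comm3 (y := y) (u := u) (by rwa [Subgroup.orderOf_coe])
      (congrArg Subtype.val hc))) ha hy
  have : Fact (Nat.Prime 2) := ⟨Nat.prime_two⟩
  have huniq : ∀ Z' : Subgroup H, Nat.card Z' = 2 → Z' = zpowers z := fun Z' hZ => by
    obtain ⟨w, hw⟩ := exists_prime_orderOf_dvd_card' (G := Z') 2 (hZ ▸ dvd_rfl)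
    have h1 : orderOf (w : H) = 2 := by rwa [Subgroup.orderOf_coe]
    have h2 : (w : H) = z := hfc.eq_of_sq (by rintro e; rw [e] at h1; simp at h1)
      (h1 ▸ pow_orderOf_eq_one _) hz1 (hker z hz)
    refine (eq_of_le_of_card_ge (zpowers_le.2 (h2 ▸ w.2)) ?_).symm
    rw [hZ, Nat.card_zpowers, ← h2, h1]
  have hkz : f.ker = zpowers z := le_antisymm (fun g hg => by
    by_cases h1 : g = 1
    · rw [h1]; exact one_mem _
    · rw [hfc.eq_of_sq h1 (hker g hg) hz1 (hker z hz)]; exact mem_zpowers z) (zpowers_le.2 hz)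
  have hkc : Nat.card f.ker = 2 := by
    rw [hkz, Nat.card_zpowers, orderOf_eq_prime (hker z hz) hz1]
  have hcH : Nat.card H = 48 := by
    rw [← f.ker.card_mul_index, hkc, index_ker, MonoidHom.range_eq_top.2 hf, card_top,
      Nat.card_eq_fintype_card, Fintype.card_perm]
    rfl
  have : ElemAb 13 V := ElemAb.of_subgroup hV13
  have : Nontrivial V := (nontrivial_iff_ne_bot V).2 hV.ne_bot
  have hρ : FPF (Vec.rep 13 (conjAutOf V H hHV)) := FPF.of_apply fun g u hu e => by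
    by_contra hg
    apply hu
    have e1 : conjAutOf V H hHV g (Vec.toMul u) = Vec.toMul u := e
    exact (Subtype.ext (hfpf g g.2 (fun e => hg (Subtype.ext e)) _ (Vec.toMul u).2
      (congrArg Subtype.val e1)) : Vec.toMul u = 1)
  have hle := finrank_le_four hρ hf hker fun U hU => by
    let U' : Subgroup V := (Vec.subEquiv 13 V).symm U
    have h1 : H ≤ normalizer ((U'.map V.subtype : Subgroup G) : Set G) :=
      (conjAutOf_invariant_iff' hHV U').1 fun g x hx => hU g _ hx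
    have h2 : V ≤ normalizer ((U'.map V.subtype : Subgroup G) : Set G) := fun x hx =>
      mem_normalizer_fintype fun u hu => by
        have : x * u = u * x := setLike_mul_comm hx (map_subtype_le _ hu)
        rw [this, mul_inv_cancel_right]; exact hu
    have h3 : (U'.map V.subtype).Normal :=
      normalizer_eq_top_iff.1 (top_le_iff.1 (htop ▸ sup_le h2 h1))
    by_cases h4 : U'.map V.subtype = ⊥
    · left
      rw [map_eq_bot_iff_of_injective _ V.subtype_injective] at h4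
      exact (Vec.subEquiv 13 V).symm.injective (h4.trans (OrderIso.map_bot _).symm)
    · right
      have h5 := hV.eq_of_le h4 (map_subtype_le _)
      have h6 : U' = ⊤ := map_injective V.subtype_injective
        (h5.trans (by rw [← MonoidHom.range_eq_map, range_subtype]))
      exact (Vec.subEquiv 13 V).symm.injective (h6.trans (OrderIso.map_top _).symm)
  have hdvd := hρ.card_dvd_card_sub_one ⊤ ⊤ fun _ _ _ _ => Submodule.mem_top
  have hcV := Vec.card_eq_pow_finrank 13 V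
  rw [card_top, hcH, Nat.card_congr (Submodule.topEquiv (R := ZMod 13)
    (M := Vec 13 V)).toEquiv, Vec.card_vec, hcV] at hdvd
  have h0 : Module.finrank (ZMod 13) (Vec 13 V) ≠ 0 := Module.finrank_pos.ne'
  refine ⟨V, H, hVn, hVc, hV13, ?_, inf_eq_bot_of_isPGroup_of_coprime hVP hHc, htop, hfpf,
    f.ker, inferInstance, hkc, fun Z' hZ => (huniq Z' hZ).trans hkz.symm,
    ⟨QuotientGroup.quotientKerEquivOfSurjective f hf⟩⟩
  rw [hcV]
  generalize Module.finrank (ZMod 13) (Vec 13 V) = d at hle hdvd h0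
  interval_cases d <;> first | rfl | omega

end Cfsg.Lib.Crit
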