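import Cfsg.Agent.Crit.Lie13
import Cfsg.Agent.Block.AbSig
import Cfsg.Agent.FT.BG3.CFix
import Cfsg.Agent.Perm.FCTri
import Cfsg.Agent.Solv.Nilpotent
import Cfsg.Agent.Solv.MinNormal

/-! A solvable group with element orders `1, 2, 3, 4, 6, 8, 13` has a non-trivial normal
`13`-subgroup. -/

set_option autoImplicit false

namespace Cfsg.Lib.Crit

open Cfsg.Lib.Solv Cfsg.Lib.Perm Subgroup

universe u

/-- The set of element orders is that of `L₃(3)`. -/
def Sp (G : Type*) [Group G] : Prop :=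
  Set.range (orderOf : G → ℕ) = ({1, 2, 3, 4, 6, 8, 13} : Set ℕ)

variable {G : Type u} [Group G]

namespace Sp

theorem mem (h : Sp G) (g : G) : orderOf g = 1 ∨ orderOf g = 2 ∨ orderOf g = 3 ∨ orderOf g = 4 ∨
    orderOf g = 6 ∨ orderOf g = 8 ∨ orderOf g = 13 := by
  have : orderOf g ∈ ({1, 2, 3, 4, 6, 8, 13} : Set ℕ) := h ▸ Set.mem_range_self g
  simpa using this

theorem ex (h : Sp G) {n : ℕ} (hn : n ∈ ({1, 2, 3, 4, 6, 8, 13} : Set ℕ)) :
    ∃ g : G, orderOf g = n := by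
  rw [← h] at hn; exact hn

theorem comm13 (h : Sp G) {x c : G} (hx : orderOf x = 13) (hc : Commute x c) : c ^ 13 = 1 := by
  have h1 := fun e => hc.orderOf_mul_eq_mul_orderOf_of_coprime e
  have h2 := h.mem (x * c)
  rw [hx] at h1
  rw [← orderOf_dvd_iff_pow_eq_one]
  rcases h.mem c with e | e | e | e | e | e | e <;> rw [e] at h1 ⊢ <;>
    first | (norm_num; done) | (have := h1 (by norm_num); omega)

theorem comm3 (h : Sp G) {y u : G} (hy : orderOf y = 3) (hc : Commute y u) : u ^ 6 = 1 := by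
  have h1 := fun e => hc.orderOf_mul_eq_mul_orderOf_of_coprime e
  have h2 := h.mem (y * u)
  rw [hy] at h1
  rw [← orderOf_dvd_iff_pow_eq_one]
  rcases h.mem u with e | e | e | e | e | e | e <;> rw [e] at h1 ⊢ <;>
    first | (norm_num; done) | (have := h1 (by norm_num); omega)

theorem prime [Finite G] (h : Sp G) {p : ℕ} (hp : p.Prime) (hd : p ∣ Nat.card G) :
    p = 2 ∨ p = 3 ∨ p = 13 := by
  have := Fact.mk hp
  obtain ⟨g, hg⟩ := exists_prime_orderOf_dvd_card' p hd
  have h2 := h.mem g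
  rw [hg] at h2
  rcases h2 with e | e | e | e | e | e | e <;> subst e <;> first | omega | (norm_num at hp)

theorem pow13 (h : Sp G) {P : Subgroup G} (hP : IsPGroup 13 P) {g : G} (hg : g ∈ P) :
    g ^ 13 = 1 := by
  obtain ⟨k, hk⟩ := (IsPGroup.iff_orderOf.1 hP) ⟨g, hg⟩
  rw [Subgroup.orderOf_mk] at hk
  rw [← orderOf_dvd_iff_pow_eq_one]
  rcases k with _ | k
  · rw [hk]; simp
  · have : 13 ∣ orderOf g := hk ▸ dvd_pow_self 13 k.succ_ne_zero
    rcases h.mem g with e | e | e | e | e | e | e <;> rw [e] at this ⊢ <;> omega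

theorem fpf [Finite G] (h : Sp G) {N : Subgroup G} (hN : (Nat.card N).Coprime 13) {x : G}
    (hx : orderOf x = 13) : N ⊓ centralizer {x} = ⊥ := by
  rw [eq_bot_iff]
  rintro c ⟨h1, h2⟩
  have h3 := h.comm13 hx (show Commute x c from mem_centralizer_singleton_iff.1 h2 |>.symm)
  have h4 : orderOf c ∣ Nat.card N := Subgroup.orderOf_dvd_natCard N h1
  rw [mem_bot, ← orderOf_eq_one_iff]
  exact Nat.eq_one_of_dvd_coprimes hN h4 (orderOf_dvd_of_pow_eq_one h3)

end Sp

theorem conj_pow_pow {h x : G} {j : ℕ} (e : h * x * h⁻¹ = x ^ j) (k : ℕ) :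
    h ^ k * x * (h ^ k)⁻¹ = x ^ j ^ k := by
  induction k with
  | zero => simp
  | succ k ih =>
    rw [pow_succ', mul_inv_rev, show h * h ^ k * x * ((h ^ k)⁻¹ * h⁻¹) =
      h * (h ^ k * x * (h ^ k)⁻¹) * h⁻¹ by group, ih, ← conj_pow, e, ← pow_mul, pow_succ']

/-- The configuration when `O₁₃(G) = 1`. -/
structure TF (N : Subgroup G) (x : G) : Prop where
  sp : Sp G
  normal : N.Normal
  ne : N ≠ ⊥
  cop : (Nat.card N).Coprime 13
  ord : orderOf x = 13
  fac : ∀ g : G, ∃ n ∈ N, ∃ h : G, g = n * h ∧ ∃ j, j < 13 ∧ h * x * h⁻¹ = x ^ j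

variable [Finite G]

theorem exists_tf [Group.IsSolvable G] (h : Sp G) (hK : pCore 13 G = ⊥) :
    ∃ (N : Subgroup G) (x : G), TF N x := by
  classical
  have hc := coprime_card_pPrimeCore 13 G
  obtain ⟨x0, hx0⟩ := h.ex (n := 13) (by simp)
  have : Nontrivial G := ⟨x0, 1, by rintro rfl; simp at hx0⟩
  have hne : pPrimeCore 13 G ≠ ⊥ := by
    obtain ⟨p, M, hp, hM, -, -, hP⟩ := exists_isMinNormal_elementary G
    intro e
    by_cases h13 : p = 13
    · subst h13
      exact hM.ne_bot (pCore_eq_bot_iff.1 hK M hM.normal hP)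
    · have := Fact.mk hp
      exact hM.ne_bot (pPrimeCore_eq_bot_iff.1 e M hM.normal
        (coprime_card_of_isPGroup hP ((Nat.coprime_primes (by norm_num) hp).2 (Ne.symm h13))))
  obtain ⟨P⟩ : Nonempty (Sylow 13 G) := inferInstance
  have hfc : IsFC (P : Subgroup G) := IsFC.of_ambient (K := pPrimeCore 13 G)
    (by rw [normalizer_eq_top]; exact le_top) hne fun g hg h1 =>
      h.fpf hc (orderOf_eq_prime (h.pow13 P.isPGroup' hg) h1)
  have hcyc : IsCyclic (P : Subgroup G) := by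
    have := hfc.isCyclic_of_odd_prime (p := 13) (by norm_num) (P := ⊤)
      (P.isPGroup'.to_subgroup ⊤)
    exact isCyclic_of_surjective _ (topEquiv (G := (P : Subgroup G))).surjective
  obtain ⟨⟨x, hxP⟩, hx⟩ := hcyc.exists_generator
  have hx' : ∀ g ∈ (P : Subgroup G), g ∈ zpowers x := fun g hg => by
    obtain ⟨k, hk⟩ := hx ⟨g, hg⟩
    exact ⟨k, congrArg Subtype.val hk⟩
  have hx1 : x ≠ 1 := by
    rintro rfl
    have hb : (P : Subgroup G) = ⊥ := eq_bot_iff.2 fun g hg => by simpa using hx' g hg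
    have := P.dvd_card_of_dvd_card (hx0 ▸ orderOf_dvd_natCard x0)
    rw [hb] at this
    simp at this
  have hxo := orderOf_eq_prime (h.pow13 P.isPGroup' hxP) hx1
  have htop := Block.AbSig.normalizer_sup_pPrimeCore (IsPSolvable.of_isSolvable 13 G) P
    (fun a ha b hb => by
      obtain ⟨k, rfl⟩ := hx' a ha
      obtain ⟨l, rfl⟩ := hx' b hb
      exact zpow_mul_comm x k l)
  refine ⟨pPrimeCore 13 G, x, h, inferInstance, hne, hc, hxo, fun g => ?_⟩
  have hg : g ∈ pPrimeCore 13 G ⊔ normalizer (P : Set G) := by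
    rw [sup_comm]; exact htop ▸ mem_top g
  obtain ⟨n, hn, k, hk, rfl⟩ := mem_sup_of_normal_left.1 hg
  refine ⟨n, hn, k, rfl, ?_⟩
  have h1 := hx' _ ((mem_normalizer_iff.1 hk x).1 hxP)
  rw [mem_zpowers_iff_mem_range_orderOf, hxo] at h1
  simp only [Finset.mem_image, Finset.mem_range] at h1
  obtain ⟨j, hj, e⟩ := h1
  exact ⟨j, hj, e.symm⟩

namespace TF

variable {N : Subgroup G} {x : G}

omit [Finite G] in
theorem x13 (T : TF N x) : x ^ 13 = 1 := T.ord ▸ pow_orderOf_eq_one x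

theorem fpf (T : TF N x) {g : G} (hg : g ∈ N) (hc : Commute x g) : g = 1 := by
  have : g ∈ N ⊓ centralizer {x} := ⟨hg, mem_centralizer_singleton_iff.2 hc.symm⟩
  rwa [T.sp.fpf T.cop T.ord] at this

/-- An element normalizing `⟨x⟩` and lying in `N` is trivial. -/
theorem eq_one (T : TF N x) {h : G} (hh : h ∈ N) {j : ℕ} (e : h * x * h⁻¹ = x ^ j) : h = 1 := by
  have := T.normal
  refine T.fpf hh ?_
  have h1 : h * x * h⁻¹ * x⁻¹ ∈ N := by
    rw [show h * x * h⁻¹ * x⁻¹ = h * (x * h⁻¹ * x⁻¹) by group]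
    exact mul_mem hh (this.conj_mem _ (inv_mem hh) x)
  have h2 : h * x * h⁻¹ * x⁻¹ = 1 := T.fpf h1 (by
    rw [e]; exact ((Commute.refl x).pow_right j).mul_right (Commute.refl x).inv_right)
  have h3 : h * x = x * h := by
    rw [mul_inv_eq_one, mul_inv_eq_iff_eq_mul] at h2; exact h2
  exact h3.symm

theorem pow_eq_one (T : TF N x) {n h : G} (hn : n ∈ N) {j : ℕ} (e : h * x * h⁻¹ = x ^ j) {k : ℕ}
    (hk : (n * h) ^ k ∈ N) : h ^ k = 1 := by
  have := T.normal
  refine T.eq_one ?_ (conj_pow_pow e k)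
  rw [← QuotientGroup.eq_one_iff] at hk hn ⊢
  rw [QuotientGroup.mk_pow, QuotientGroup.mk_mul, hn, one_mul] at hk
  rw [QuotientGroup.mk_pow, hk]

omit [Finite G] in
theorem pow_mem (T : TF N x) {n h : G} (hn : n ∈ N) {k : ℕ} (hk : h ^ k = 1) :
    (n * h) ^ k ∈ N := by
  have := T.normal
  rw [← QuotientGroup.eq_one_iff] at hn ⊢
  rw [QuotientGroup.mk_pow, QuotientGroup.mk_mul, hn, one_mul, ← QuotientGroup.mk_pow, hk,
    QuotientGroup.mk_one]

omit [Finite G] in
theorem modEq (T : TF N x) {h : G} {j k : ℕ} (e : h * x * h⁻¹ = x ^ j) (hk : h ^ k = 1) :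
    j ^ k % 13 = 1 := by
  have h1 := conj_pow_pow e k
  rw [hk, one_mul, inv_one, mul_one] at h1
  have h2 : x ^ 1 = x ^ j ^ k := by rwa [pow_one]
  rw [pow_eq_pow_iff_modEq, T.ord] at h2
  exact h2.symm

omit [Finite G] in
theorem pow13 (T : TF N x) {h : G} {j : ℕ} (e : h * x * h⁻¹ = x ^ j) (hj : j % 13 = 1) :
    h ^ 13 = 1 := by
  refine T.sp.comm13 T.ord ?_
  rw [← pow_mod_orderOf, T.ord, hj, pow_one, mul_inv_eq_iff_eq_mul] at e
  exact e.symm

theorem nilp (T : TF N x) : Group.IsNilpotent N := by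
  have := T.normal
  have h1 : ∀ g : N, MulAut.conjNormal x g = g → g = 1 := fun g hg => Subtype.ext <|
    T.fpf g.2 (by
      have := congrArg Subtype.val hg
      rw [MulAut.conjNormal_apply, mul_inv_eq_iff_eq_mul] at this
      exact this)
  refine Cfsg.Agent.S0033.result (MulAut.conjNormal x : MulAut N) h1 13 (by norm_num)
    (orderOf_eq_prime (by rw [← map_pow, T.x13, map_one]) fun e => T.ne ?_)
  exact eq_bot_iff.2 fun g hg => congrArg Subtype.val (h1 ⟨g, hg⟩ (by rw [e]; rfl))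

theorem gd (T : TF N x) [N.Normal] (h2 : IsPGroup 2 N) {s : G} (hs : orderOf s = 3)
    (e : s * x * s⁻¹ = x ^ 9) :
    GD (MulAut.conjNormal x : MulAut N) (MulAut.conjNormal s) := by
  have hs3 : s ^ 3 = 1 := hs ▸ pow_orderOf_eq_one s
  refine ⟨h2, by rw [← map_pow, T.x13, map_one], fun g hg => Subtype.ext (T.fpf g.2 ?_),
    by rw [← map_pow, hs3, map_one], ?_, fun g hg => ?_⟩
  · have := congrArg Subtype.val hg
    rw [MulAut.conjNormal_apply, mul_inv_eq_iff_eq_mul] at this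
    exact this
  · rw [← map_pow, ← map_mul, ← map_mul]
    congr 1
    have : s * x ^ 3 * s⁻¹ = x := by
      rw [← conj_pow, e, ← pow_mul, ← pow_mod_orderOf, T.ord]; simp
    rw [← mul_inv_eq_iff_eq_mul.1 this]
  · have h3 := congrArg Subtype.val hg
    rw [MulAut.conjNormal_apply, mul_inv_eq_iff_eq_mul] at h3
    have h4 := T.sp.comm3 hs h3
    obtain ⟨k, hk⟩ := h2 g
    have h5 : orderOf g ∣ 6 := orderOf_dvd_of_pow_eq_one (Subtype.ext h4)
    have h6 : orderOf g ∣ 2 ^ k := orderOf_dvd_of_pow_eq_one hk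
    have h7 : orderOf g ∣ 2 := Nat.Coprime.dvd_of_dvd_mul_left (n := 2) (m := 3)
      (Nat.Coprime.coprime_dvd_left h6 (Nat.Coprime.pow_left _ (by norm_num))) h5
    rw [← pow_two]
    exact orderOf_dvd_iff_pow_eq_one.1 h7

theorem not_three (T : TF N x) : ¬ 3 ∣ Nat.card N := by
  intro h3
  have := T.normal
  have : Fact (Nat.Prime 3) := ⟨Nat.prime_three⟩
  obtain ⟨a, ha⟩ := T.sp.ex (n := 8) (by simp)
  obtain ⟨n, hn, h, rfl, j, hj, e⟩ := T.fac a
  have h8 : h ^ 8 = 1 := T.pow_eq_one hn e (by rw [← ha, pow_orderOf_eq_one]; exact one_mem _)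
  have h4 : h ^ 4 = 1 := by
    have h5 := T.modEq e h8
    have h6 : j ^ 4 % 13 = 1 := by
      clear e; interval_cases j <;> first | rfl | (norm_num at h5)
    have h7 := T.pow13 (conj_pow_pow e 4) h6
    rw [← pow_mul, show 4 * 13 = 8 * 6 + 4 by rfl, pow_add, pow_mul, h8] at h7
    simpa using h7
  obtain ⟨⟨y, hyN⟩, hy⟩ := exists_prime_orderOf_dvd_card' 3 h3
  rw [Subgroup.orderOf_mk] at hy
  by_cases h2 : h ^ 2 = 1
  · have h5 := T.pow_mem hn h2
    have h6 : orderOf ((n * h) ^ 2) = 4 := by rw [orderOf_pow, ha]; rfl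
    have h7 := T.sp.comm3 hy (commute_of_mem_of_coprime_of_isNilpotent T.nilp hyN h5
      (by rw [hy, h6]; norm_num))
    have := orderOf_dvd_of_pow_eq_one h7
    rw [h6] at this
    omega
  have ho : orderOf h = 4 := orderOf_eq_prime_pow (p := 2) (n := 1) (by simpa using h2) h4
  have hn' := T.nilp
  obtain ⟨S⟩ : Nonempty (Sylow 3 N) := inferInstance
  have hS : (S : Subgroup N).Normal := inferInstance
  have hSc : (S : Subgroup N).Characteristic := S.characteristic_of_normal hS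
  set R : Subgroup G := (S : Subgroup N).map N.subtype with hR
  have hRn : R.Normal := inferInstance
  have hRP : IsPGroup 3 R := S.isPGroup'.map _
  have hRN : R ≤ N := map_subtype_le _
  have hR0 : Nat.card R ≠ 1 := by
    rw [hR, card_map_of_injective N.subtype_injective]
    intro e1
    have := S.dvd_card_of_dvd_card h3
    rw [e1] at this
    omega
  have key := FT.Frobenius_Wielandt_fixpoint (K := zpowers x) (R := zpowers h) (M := R)
    (zpowers_le.2 (mem_normalizer_fintype fun u hu => by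
      obtain ⟨k, rfl⟩ := hu
      change h * x ^ k * h⁻¹ ∈ zpowers x
      rw [← conj_zpow, e]
      exact zpow_mem (Subgroup.pow_mem _ (mem_zpowers x) _) _))
    (fun u hu hu1 => eq_bot_iff.2 fun v hv => by
      by_contra hv1
      have h13 : v ^ 13 = 1 := by
        obtain ⟨k, rfl⟩ := hv.1
        rw [← zpow_natCast, ← zpow_mul, mul_comm, zpow_mul, zpow_natCast, T.x13, one_zpow]
      have h14 := T.sp.comm13 (orderOf_eq_prime h13 hv1) (mem_centralizer_singleton_iff.1 hv.2)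
      have h15 : u ^ 4 = 1 := by
        obtain ⟨k, rfl⟩ := hu
        rw [← zpow_natCast, ← zpow_mul, mul_comm, zpow_mul, zpow_natCast, h4, one_zpow]
      rw [show 13 = 4 * 3 + 1 by rfl, pow_succ, pow_mul, h15, one_pow, one_mul] at h14
      exact hu1 h14)
    (by have := hRP.isNilpotent; infer_instance)
    (by rw [normalizer_eq_top]; exact le_top) (by rw [normalizer_eq_top]; exact le_top)
    (coprime_card_of_isPGroup hRP (by rw [Nat.card_zpowers, T.ord]; norm_num))
    (coprime_card_of_isPGroup hRP (by rw [Nat.card_zpowers, ho]; norm_num))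
  have k1 : R ⊓ centralizer (zpowers x : Set G) = ⊥ := eq_bot_iff.2 fun g hg =>
    T.fpf (hRN hg.1) (hg.2 x (mem_zpowers x))
  have k2 : R ⊓ centralizer ((zpowers x ⊔ zpowers h : Subgroup G) : Set G) = ⊥ :=
    eq_bot_iff.2 fun g hg => T.fpf (hRN hg.1) (hg.2 x (mem_sup_left (mem_zpowers x)))
  have k3 : R ⊓ centralizer (zpowers h : Set G) = ⊥ := eq_bot_iff.2 fun g hg => by
    by_contra hg1
    obtain ⟨k, hk⟩ := (IsPGroup.iff_orderOf.1 hRP) ⟨g, hg.1⟩
    rw [Subgroup.orderOf_mk] at hk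
    have hg3 : orderOf g = 3 := by
      rcases k with _ | k
      · exact absurd (orderOf_eq_one_iff.1 hk) hg1
      · have h9 : 3 ∣ orderOf g := hk ▸ dvd_pow_self 3 k.succ_ne_zero
        have h10 : ¬ 2 ∣ orderOf g := fun h11 => by
          have := Nat.prime_two.dvd_of_dvd_pow (hk ▸ h11); omega
        rcases T.sp.mem g with e | e | e | e | e | e | e <;> rw [e] at h9 h10 ⊢ <;> omega
    have := orderOf_dvd_of_pow_eq_one (T.sp.comm3 hg3 (hg.2 h (mem_zpowers h)).symm)
    rw [ho] at this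
    omega
  rw [k1, k2, k3] at key
  simp only [card_bot, one_pow, one_mul] at key
  exact hR0 key

theorem false (T : TF N x) : False := by
  have := T.normal
  have : Fact (Nat.Prime 2) := ⟨Nat.prime_two⟩
  have h2 : IsPGroup 2 N := isPGroup_iff_isPiNum.2 fun p hp hd => by
    rcases T.sp.prime hp (hd.trans (card_subgroup_dvd_card N)) with rfl | rfl | rfl
    · rfl
    · exact absurd hd T.not_three
    · have := Nat.eq_one_of_dvd_coprimes T.cop hd dvd_rfl; omega
  obtain ⟨y, hy⟩ := T.sp.ex (n := 3) (by simp)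
  obtain ⟨s, hs, es⟩ : ∃ s : G, orderOf s = 3 ∧ s * x * s⁻¹ = x ^ 9 := by
    obtain ⟨n, hn, s, rfl, j, hj, e⟩ := T.fac y
    have h3 : s ^ 3 = 1 := T.pow_eq_one hn e (by rw [← hy, pow_orderOf_eq_one]; exact one_mem _)
    have h1 : s ≠ 1 := by
      rintro rfl
      rw [mul_one] at hy
      exact T.not_three (hy ▸ Subgroup.orderOf_dvd_natCard N hn)
    have : Fact (Nat.Prime 3) := ⟨Nat.prime_three⟩
    have hs := orderOf_eq_prime h3 h1
    have h5 := T.modEq e h3
    have h6 : j % 13 ≠ 1 := fun h7 => by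
      have := orderOf_dvd_of_pow_eq_one (T.pow13 e h7)
      rw [hs] at this; omega
    have h7 : j = 3 ∨ j = 9 := by
      clear e; interval_cases j <;> omega
    rcases h7 with rfl | rfl
    · exact ⟨s ^ 2, by rw [orderOf_pow, hs]; rfl, conj_pow_pow e 2⟩
    · exact ⟨s, hs, e⟩
  obtain ⟨a, ha⟩ := T.sp.ex (n := 8) (by simp)
  obtain ⟨n, hn, h, rfl, j, hj, e⟩ := T.fac a
  have h8 : h ^ 8 = 1 := T.pow_eq_one hn e (by rw [← ha, pow_orderOf_eq_one]; exact one_mem _)
  by_cases h1 : h = 1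
  · subst h1
    rw [mul_one] at ha
    have := (T.gd h2 hs es).pow_four ⟨n, hn⟩
    have := orderOf_dvd_of_pow_eq_one (congrArg Subtype.val this : n ^ 4 = 1)
    rw [ha] at this
    omega
  obtain ⟨t, et⟩ : ∃ t : G, t * x * t⁻¹ = x ^ 12 := by
    have h5 := T.modEq e h8
    have h6 : j % 13 ≠ 1 := fun h7 => by
      have h9 := T.pow13 e h7
      have := Nat.eq_one_of_dvd_coprimes (by norm_num) (orderOf_dvd_of_pow_eq_one h8)
        (orderOf_dvd_of_pow_eq_one h9)
      exact h1 (orderOf_eq_one_iff.1 this)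
    have h7 : j = 12 ∨ j ^ 2 % 13 = 12 := by
      clear e; interval_cases j <;> omega
    rcases h7 with rfl | h7
    · exact ⟨h, e⟩
    · exact ⟨h ^ 2, by rw [conj_pow_pow e 2, ← pow_mod_orderOf, T.ord, h7]⟩
  have eu : s * t * x * (s * t)⁻¹ = x ^ 4 := by
    rw [mul_inv_rev, show s * t * x * (t⁻¹ * s⁻¹) = s * (t * x * t⁻¹) * s⁻¹ by group, et,
      ← conj_pow, es, ← pow_mul, ← pow_mod_orderOf, T.ord]
  generalize s * t = u at eu
  have hu : orderOf u = 6 := by
    have := T.modEq eu (pow_orderOf_eq_one u)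
    rcases T.sp.mem u with e | e | e | e | e | e | e <;> rw [e] at this ⊢ <;> omega
  have hu6 : u ^ 6 = 1 := hu ▸ pow_orderOf_eq_one u
  have hs1 : orderOf (u ^ 4) = 3 := by rw [orderOf_pow, hu]; rfl
  have D := T.gd h2 hs1 (by rw [conj_pow_pow eu 4, ← pow_mod_orderOf, T.ord]; norm_num)
  have e3 : u ^ 3 * x * (u ^ 3)⁻¹ = x ^ 12 := by
    rw [conj_pow_pow eu 3, ← pow_mod_orderOf, T.ord]; norm_num
  refine T.ne (eq_bot_iff.2 fun g hg => congrArg Subtype.val
    (D.eq_one (θ := MulAut.conjNormal (u ^ 3)) ?_ (fun g hg => Subtype.ext ?_) ⟨g, hg⟩))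
  · rw [← map_pow, ← map_mul, ← map_mul]
    congr 1
    have : u ^ 3 * x ^ 12 * (u ^ 3)⁻¹ = x := by
      rw [← conj_pow, e3, ← pow_mul, ← pow_mod_orderOf, T.ord]; simp
    rw [← mul_inv_eq_iff_eq_mul.1 this]
  · have h3 := congrArg Subtype.val hg
    rw [MulAut.conjNormal_apply, mul_inv_eq_iff_eq_mul] at h3
    have h4 := T.sp.comm3 hs1 (Commute.mul_right h3 ((Commute.refl u).pow_pow 4 3))
    have h5 : ((g : G) * u ^ 3) ^ 2 = (g * MulAut.conjNormal (u ^ 3) g : N) := by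
      have : (u ^ 3)⁻¹ = u ^ 3 := by rw [inv_eq_iff_mul_eq_one, ← pow_add, hu6]
      rw [Subgroup.coe_mul, MulAut.conjNormal_apply, this, pow_two]; group
    rw [show 6 = 2 * 3 by rfl, pow_mul, h5] at h4
    obtain ⟨k, hk⟩ := h2 (g * MulAut.conjNormal (u ^ 3) g)
    have h6 := Nat.eq_one_of_dvd_coprimes (Nat.Coprime.pow_left k (by norm_num))
      (orderOf_dvd_of_pow_eq_one hk) (orderOf_dvd_of_pow_eq_one (Subtype.ext h4))
    have h7 := (orderOf_eq_one_iff.1 h6).trans (D.sq g hg).symm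
    exact congrArg Subtype.val (mul_left_cancel h7)

end TF

theorem Sp.pCore_ne_bot [Group.IsSolvable G] (h : Sp G) : pCore 13 G ≠ ⊥ := fun hK => by
  obtain ⟨N, x, T⟩ := exists_tf h hK
  exact T.false

end Cfsg.Lib.Crit
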